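import Cfsg.Agent.S2759
import Cfsg.Agent.Lib.PLocal.Thompson
import Cfsg.Agent.Lib.Coprime.Basic

/-
A quadratic offender on an elementary abelian 2-group gives an `S₄` section, when the group acting is
(abelian of odd order) by a 2-group and self-centralizing below.
Main results: `involves_of_inverting_action`, `involves_of_offender`.
-/

set_option autoImplicit false

namespace Cfsg.Agent.SFourOffender

open scoped Classical

variable {G : Type*} [Group G]

/-- Elements congruent modulo the centralizer act in the same way. -/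
theorem conj_congr {V : Subgroup G} {g h : G}
    (e : h⁻¹ * g ∈ Subgroup.centralizer (V : Set G)) {v : G} (hv : v ∈ V) :
    g * v * g⁻¹ = h * v * h⁻¹ := by
  have h1 := Subgroup.mem_centralizer_iff.1 e v hv
  calc g * v * g⁻¹ = h * (h⁻¹ * g * v) * g⁻¹ := by group
    _ = h * (v * (h⁻¹ * g)) * g⁻¹ := by rw [h1]
    _ = h * v * h⁻¹ := by group

variable [Finite G]

/-- An involution inverting an element of order three in the action on a 2-subgroup gives `S₄`. -/
theorem involves_of_inverting_action {W : Subgroup G} (hW : IsPGroup 2 W) {a y : G}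
    (ha : a ∈ Subgroup.normalizer (W : Set G)) (hy : y ∈ Subgroup.normalizer (W : Set G))
    (ha2 : a * a ∈ Subgroup.centralizer (W : Set G)) (hy3 : y ^ 3 ∈ Subgroup.centralizer (W : Set G))
    (hinv : a * y * a⁻¹ * y ∈ Subgroup.centralizer (W : Set G))
    (hyC : y ∉ Subgroup.centralizer (W : Set G)) :
    Cfsg.Involves (Equiv.Perm (Fin 4)) G := by
  refine S2759.result.2 ⟨W, hW, ?_⟩
  obtain ⟨e⟩ := S2759.exists_equiv_dihedral
  refine Involves.involves_of_mulEquiv e ?_
  set N := Subgroup.normalizer (W : Set G)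
  let π := QuotientGroup.mk' ((Subgroup.centralizer (W : Set G)).subgroupOf N)
  have h1 : ∀ n : N, (n : G) ∈ Subgroup.centralizer (W : Set G) → π n = 1 := fun n hn =>
    (QuotientGroup.eq_one_iff n).2 hn
  set A := π ⟨a, ha⟩
  set Y := π ⟨y, hy⟩
  have hA : A * A = 1 := by rw [← map_mul]; exact h1 _ ha2
  have hY : Y ^ 3 = 1 := by rw [← map_pow]; exact h1 _ hy3
  have hAY : A * Y * A⁻¹ = Y⁻¹ := by
    rw [← mul_eq_one_iff_eq_inv, ← map_inv, ← map_mul, ← map_mul, ← map_mul]
    exact h1 _ hinv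
  have hY1 : Y ≠ 1 := fun h => hyC ((QuotientGroup.eq_one_iff (⟨y, hy⟩ : N)).1 h)
  set f := Involves.dihedralHom hY hA hAY
  have hord : orderOf Y = 3 := orderOf_eq_prime hY hY1
  have hinj : Function.Injective f := by
    refine (injective_iff_map_eq_one f).2 fun d hd => ?_
    rcases d with i | i
    · rw [Involves.dihedralHom_r, ← orderOf_dvd_iff_pow_eq_one, hord] at hd
      have : i.val = 0 := Nat.eq_zero_of_dvd_of_lt hd (ZMod.val_lt i)
      rw [ZMod.val_eq_zero] at this
      subst this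
      rfl
    · exfalso
      rw [Involves.dihedralHom_sr] at hd
      have hAe : A = (Y ^ i.val)⁻¹ := eq_inv_of_mul_eq_one_left hd
      have hc : A * Y * A⁻¹ = Y := by rw [hAe]; group
      rw [hAY] at hc
      have h2 : Y ^ 2 = 1 := by rw [sq]; nth_rewrite 1 [← hc]; exact inv_mul_cancel Y
      have h3 := orderOf_dvd_iff_pow_eq_one.2 h2
      rw [hord] at h3
      norm_num at h3
  let j := MonoidHom.ofInjective hinj
  exact Involves.involves_of_hom j.symm.toMonoidHom j.symm.surjective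

/-- A quadratic offender on an elementary abelian normal 2-subgroup gives `S₄`. -/
theorem involves_of_offender {V : Subgroup G} [V.Normal] (hV : Cfsg.IsElementaryAbelian 2 V)
    {R : Subgroup G} [R.Normal]
    (hab : ∀ x ∈ R, ∀ y ∈ R, x⁻¹ * y⁻¹ * x * y ∈ Subgroup.centralizer (V : Set G))
    (hodd : ∀ x ∈ R, ∃ n : ℕ, n.Coprime 2 ∧ x ^ n ∈ Subgroup.centralizer (V : Set G))
    {A : Subgroup G}
    (hcent : ∀ g ∈ A, (∀ x ∈ R, g⁻¹ * x⁻¹ * g * x ∈ Subgroup.centralizer (V : Set G)) →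
      g ∈ Subgroup.centralizer (V : Set G))
    (hAab : ∀ a ∈ A, ∀ b ∈ A, a⁻¹ * b⁻¹ * a * b ∈ Subgroup.centralizer (V : Set G))
    (hA2 : ∀ a ∈ A, a * a ∈ Subgroup.centralizer (V : Set G))
    (hmax : ∀ B : Subgroup G, B ≤ A → Nat.card B * Nat.card ↥(V ⊓ Subgroup.centralizer (B : Set G)) ≤
      Nat.card A * Nat.card ↥(V ⊓ Subgroup.centralizer (A : Set G)))
    (hne : ¬ A ≤ Subgroup.centralizer (V : Set G)) :
    Cfsg.Involves (Equiv.Perm (Fin 4)) G := by
  set C := Subgroup.centralizer (V : Set G) with hCdef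
  haveI : C.Normal := Subgroup.normal_centralizer
  set f := QuotientGroup.mk' C
  have hf1 : ∀ {g : G}, f g = 1 ↔ g ∈ C := fun {g} => QuotientGroup.eq_one_iff g
  have hcomm : ∀ {g h : G}, g⁻¹ * h⁻¹ * g * h ∈ C ↔ f g * f h = f h * f g := by
    intro g h
    rw [← hf1, map_mul, map_mul, map_mul, map_inv, map_inv]
    constructor
    · intro e
      calc f g * f h = f h * f g * ((f g)⁻¹ * (f h)⁻¹ * f g * f h) := by group
        _ = f h * f g := by rw [e, mul_one]
    · intro e
      rw [mul_assoc ((f g)⁻¹ * (f h)⁻¹), e]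
      group
  have hact : ∀ {g h : G}, f g = f h → ∀ {v : G}, v ∈ V → g * v * g⁻¹ = h * v * h⁻¹ := by
    intro g h e v hv
    refine conj_congr (hf1.1 ?_) hv
    rw [map_mul, map_inv, e, inv_mul_cancel]
  have hA2' : ∀ a ∈ A, f a * f a = 1 := fun a ha => by rw [← map_mul]; exact hf1.2 (hA2 a ha)
  have hAinv : ∀ a ∈ A, (f a)⁻¹ = f a := fun a ha => inv_eq_of_mul_eq_one_right (hA2' a ha)
  have hAc : ∀ a ∈ A, ∀ b ∈ A, f a * f b = f b * f a := fun a ha b hb => hcomm.1 (hAab a ha b hb)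
  have hRc : ∀ x ∈ R, ∀ y ∈ R, f x * f y = f y * f x := fun x hx y hy => hcomm.1 (hab x hx y hy)
  have hVV : ∀ v ∈ V, ∀ w ∈ V, v * w = w * v := fun v hv w hw =>
    congrArg Subtype.val (hV.1.1.comm ⟨v, hv⟩ ⟨w, hw⟩)
  have hV2 : ∀ v ∈ V, v * v = 1 := fun v hv => by rw [← sq]; exact hV.2 v hv
  -- the fixed points of a power
  have hroot : ∀ (x : G) (n : ℕ), n.Coprime 2 → x ^ n ∈ C → ∀ v ∈ V,
      x * x * v * (x * x)⁻¹ = v → x * v * x⁻¹ = v := by
    intro x n hn hxn v hv h2
    obtain ⟨k, hk⟩ := Nat.coprime_two_right.1 hn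
    have hp : ∀ i : ℕ, x ^ (2 * i) * v * (x ^ (2 * i))⁻¹ = v := by
      intro i
      induction i with
      | zero => simp
      | succ i ih =>
        rw [show x ^ (2 * (i + 1)) = x ^ (2 * i) * (x * x) by rw [mul_add, pow_add]; simp [sq]]
        calc x ^ (2 * i) * (x * x) * v * (x ^ (2 * i) * (x * x))⁻¹
            = x ^ (2 * i) * (x * x * v * (x * x)⁻¹) * (x ^ (2 * i))⁻¹ := by group
          _ = v := by rw [h2, ih]
    have h1 : x ^ n * v * (x ^ n)⁻¹ = v := by
      rw [← Subgroup.mem_centralizer_iff.1 hxn v hv]; group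
    calc x * v * x⁻¹ = x * (x ^ (2 * k) * v * (x ^ (2 * k))⁻¹) * x⁻¹ := by rw [hp]
      _ = x ^ n * v * (x ^ n)⁻¹ := by rw [hk, pow_succ']; group
      _ = v := h1
  -- a commutator fixed by an element of odd order is trivial
  have hlin : ∀ (x : G) (n : ℕ), n.Coprime 2 → x ^ n ∈ C → ∀ v ∈ V,
      x * (x * v * x⁻¹ * v⁻¹) * x⁻¹ = x * v * x⁻¹ * v⁻¹ → x * v * x⁻¹ = v := by
    intro x n hn hxn v hv hd
    refine hroot x n hn hxn v hv ?_
    have hd' : x * v * x⁻¹ * v⁻¹ ∈ V :=
      V.mul_mem ((inferInstance : V.Normal).conj_mem v hv x) (V.inv_mem hv)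
    set d := x * v * x⁻¹ * v⁻¹ with hddef
    have e : x * v * x⁻¹ = d * v := by rw [hddef]; group
    calc x * x * v * (x * x)⁻¹ = x * (x * v * x⁻¹) * x⁻¹ := by group
      _ = (x * d * x⁻¹) * (x * v * x⁻¹) := by conv_lhs => rw [e]
                                              group
      _ = d * (d * v) := by rw [hd, e]
      _ = v := by rw [← mul_assoc, hV2 d hd', one_mul]
  -- a subgroup of index two centralizing an element of `R` modulo `C`
  obtain ⟨B, ⟨hBA, hCB, x, hxR, hxB, hxA⟩, hBmax⟩ := Set.exists_max_image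
    {B : Subgroup G | B ≤ A ∧ A ⊓ C ≤ B ∧ ∃ x ∈ R, (∀ b ∈ B, f b * f x = f x * f b) ∧
      ∃ a ∈ A, f a * f x ≠ f x * f a} (fun B => Nat.card B) (Set.toFinite _) (by
    obtain ⟨a, ha, haC⟩ := SetLike.not_le_iff_exists.1 hne
    have hxx : ∃ x ∈ R, f a * f x ≠ f x * f a := by
      by_contra hno
      push Not at hno
      exact haC (hcent a ha fun x hx => hcomm.2 (hno x hx))
    obtain ⟨x, hx, hne'⟩ := hxx
    exact ⟨A ⊓ C, inf_le_left, le_rfl, x, hx, fun b hb => by
      rw [hf1.2 hb.2, one_mul, mul_one], a, ha, hne'⟩)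
  have hgrow : ∀ c ∈ A, c ∉ B → ∀ z ∈ R, (∀ b ∈ B, f b * f z = f z * f b) →
      f c * f z = f z * f c → ∀ a ∈ A, f a * f z = f z * f a := by
    intro c hc hcB z hz hzB hzc a ha
    by_contra hne'
    set B' := B ⊔ Subgroup.zpowers c
    have hB' : B' ≤ (Subgroup.centralizer ({f z} : Set (G ⧸ C))).comap f := sup_le
      (fun b hb => Subgroup.mem_centralizer_singleton_iff.2 (hzB b hb))
      (Subgroup.zpowers_le.2 (Subgroup.mem_centralizer_singleton_iff.2 hzc))
    have hmem : B' ∈ {B : Subgroup G | B ≤ A ∧ A ⊓ C ≤ B ∧ ∃ x ∈ R,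
        (∀ b ∈ B, f b * f x = f x * f b) ∧ ∃ a ∈ A, f a * f x ≠ f x * f a} :=
      ⟨sup_le hBA (Subgroup.zpowers_le.2 hc), hCB.trans le_sup_left, z, hz,
        fun b hb => Subgroup.mem_centralizer_singleton_iff.1 (hB' hb), a, ha, hne'⟩
    exact hcB ((Subgroup.eq_of_le_of_card_ge (le_sup_left : B ≤ B') (hBmax B' hmem)).ge
      (Subgroup.mem_sup_right (Subgroup.mem_zpowers c)))
  obtain ⟨a, ha, hax⟩ := hxA
  have haB : a ∉ B := fun h => hax (hxB a h)
  -- the products of `x` with its conjugates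
  have hprod : ∀ c ∈ A, c ∉ B →
      ∀ e ∈ A, f e * (f x * (f c * f x * (f c)⁻¹)) = f x * (f c * f x * (f c)⁻¹) * f e := by
    intro c hc hcB e he
    have hxc : c * x * c⁻¹ ∈ R := (inferInstance : R.Normal).conj_mem x hxR c
    have h1 : f (x * (c * x * c⁻¹)) = f x * (f c * f x * (f c)⁻¹) := by
      simp only [map_mul, map_inv]
    rw [← h1]
    refine hgrow c hc hcB _ (R.mul_mem hxR hxc) (fun b hb => ?_) ?_ e he
    · rw [h1]
      have e1 := hxB b hb
      have e2 := hAc b (hBA hb) c hc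
      have e3 : f b * (f c * f x * (f c)⁻¹) = f c * f x * (f c)⁻¹ * f b := by
        have e4 : (f c)⁻¹ * f b = f b * (f c)⁻¹ := by
          rw [hAinv c hc]; exact hAc c hc b (hBA hb)
        calc f b * (f c * f x * (f c)⁻¹) = (f b * f c) * f x * (f c)⁻¹ := by group
          _ = f c * (f b * f x) * (f c)⁻¹ := by rw [e2]; group
          _ = f c * f x * (f b * (f c)⁻¹) := by rw [e1]; group
          _ = f c * f x * (f c)⁻¹ * f b := by rw [← e4]; group
      rw [← mul_assoc, e1, mul_assoc, e3, ← mul_assoc]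
    · rw [h1]
      have e5 : f x * (f c * f x * (f c)⁻¹) = (f c * f x * (f c)⁻¹) * f x := by
        rw [← map_inv, ← map_mul, ← map_mul]; exact hRc x hxR _ hxc
      have e6 : f c * (f x * (f c * f x * (f c)⁻¹)) =
          (f c * f x * (f c)⁻¹) * f x * f c := by
        calc f c * (f x * (f c * f x * (f c)⁻¹))
            = (f c * f x * (f c)⁻¹) * (f c * f c) * f x * (f c)⁻¹ := by group
          _ = _ := by rw [hA2' c hc, mul_one, hAinv c hc]
      rw [e6, ← e5]
  have htwo : ∀ c ∈ A, c ∈ B ∨ a * c ∈ B := by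
    intro c hc
    by_contra hcon
    push Not at hcon
    obtain ⟨hcB, hacB⟩ := hcon
    set X := f x
    set Xa := f a * X * (f a)⁻¹
    set Xc := f c * X * (f c)⁻¹
    set Xac := f a * Xc * (f a)⁻¹
    have hw := hprod (a * c) (A.mul_mem ha hc) hacB a ha
    rw [map_mul, mul_inv_rev, show f a * f c * X * ((f c)⁻¹ * (f a)⁻¹) = Xac by
      simp only [Xac, Xc]; group] at hw
    have hw' : X * Xac = Xa * Xc := by
      have : f a * (X * Xac) * (f a)⁻¹ = X * Xac := by rw [hw, mul_inv_cancel_right]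
      have e : f a * Xac * (f a)⁻¹ = Xc := by
        calc f a * Xac * (f a)⁻¹ = (f a * f a) * Xc * (f a * f a)⁻¹ := by simp only [Xac]; group
          _ = Xc := by rw [hA2' a ha]; group
      rw [← this]
      calc f a * (X * Xac) * (f a)⁻¹ = Xa * (f a * Xac * (f a)⁻¹) := by simp only [Xa]; group
        _ = _ := by rw [e]
    have hcX : X * Xa = Xa * X := by
      simp only [X, Xa, ← map_inv, ← map_mul]
      exact hRc x hxR _ ((inferInstance : R.Normal).conj_mem x hxR a)
    have hsq : X * X = (X * Xa) * (X * Xc) * (X * Xac)⁻¹ := by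
      rw [eq_mul_inv_iff_mul_eq, hw']
      calc X * X * (Xa * Xc) = X * (X * Xa) * Xc := by group
        _ = X * (Xa * X) * Xc := by rw [hcX]
        _ = _ := by group
    have hall : ∀ e ∈ A, f e ∈ Subgroup.centralizer ({X * X} : Set (G ⧸ C)) := fun e he => by
      rw [Subgroup.mem_centralizer_singleton_iff, hsq]
      have c1 : Commute (f e) (X * Xa) := hprod a ha haB e he
      have c2 : Commute (f e) (X * Xc) := hprod c hc hcB e he
      have c3 : Commute (f e) (X * Xac) := by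
        have := hprod (a * c) (A.mul_mem ha hc) hacB e he
        rwa [map_mul, mul_inv_rev, show f a * f c * X * ((f c)⁻¹ * (f a)⁻¹) = Xac by
          simp only [Xac, Xc]; group] at this
      exact ((c1.mul_right c2).mul_right c3.inv_right)
    obtain ⟨n, hn, hxn⟩ := hodd x hxR
    obtain ⟨k, rfl⟩ := Nat.coprime_two_right.1 hn
    apply hax
    have h1 : Commute (f a) (X * X) := Subgroup.mem_centralizer_singleton_iff.1 (hall a ha)
    have h2 : X = ((X * X) ^ k)⁻¹ := by
      have := hf1.2 hxn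
      rw [map_pow, pow_succ', pow_mul, sq] at this
      exact eq_inv_of_mul_eq_one_left this
    show f a * X = X * f a
    rw [h2]
    exact (h1.pow_right k).inv_right
  -- the inverted element
  set y := a * x * a⁻¹ * x⁻¹
  have hyR : y ∈ R := R.mul_mem ((inferInstance : R.Normal).conj_mem x hxR a) (R.inv_mem hxR)
  obtain ⟨n, hn, hyn⟩ := hodd y hyR
  have hyY : f y = f a * f x * (f a)⁻¹ * (f x)⁻¹ := by simp only [y, map_mul, map_inv]
  have hy1 : y ∉ C := fun h => by
    apply hax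
    have := hf1.2 h
    rw [hyY, mul_inv_eq_one, mul_inv_eq_iff_eq_mul] at this
    exact this
  have hinv : f a * f y * (f a)⁻¹ = (f y)⁻¹ := by
    rw [hyY]
    calc f a * (f a * f x * (f a)⁻¹ * (f x)⁻¹) * (f a)⁻¹
        = (f a * f a) * f x * (f a)⁻¹ * (f x)⁻¹ * (f a)⁻¹ := by group
      _ = f x * f a * (f x)⁻¹ * (f a)⁻¹ := by rw [hA2' a ha, one_mul, hAinv a ha]
      _ = _ := by group
  have hyB : ∀ b ∈ B, f b * f y = f y * f b := fun b hb => by
    have c1 : Commute (f b) (f x) := hxB b hb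
    have c2 : Commute (f b) (f a) := hAc b (hBA hb) a ha
    rw [hyY]
    exact ((c2.mul_right c1).mul_right c2.inv_right).mul_right c1.inv_right
  -- the fixed points of `B`
  set W := V ⊓ Subgroup.centralizer (B : Set G)
  have hWmem : ∀ {w : G}, w ∈ W ↔ w ∈ V ∧ ∀ b ∈ B, b * w * b⁻¹ = w := by
    intro w
    refine and_congr_right fun _ => Subgroup.mem_centralizer_iff.trans ⟨fun h b hb => ?_, fun h b hb => ?_⟩
    · rw [h b hb, mul_inv_cancel_right]
    · exact mul_inv_eq_iff_eq_mul.1 (h b hb)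
  have hWinv : ∀ g : G, (∀ b ∈ B, f b * f g = f g * f b) → g ∈ Subgroup.normalizer (W : Set G) := by
    intro g hg
    refine Coprime.mem_normalizer_of_forall fun w hw => ?_
    obtain ⟨hwV, hwB⟩ := hWmem.1 hw
    refine hWmem.2 ⟨(inferInstance : V.Normal).conj_mem w hwV g, fun b hb => ?_⟩
    calc b * (g * w * g⁻¹) * b⁻¹ = (b * g) * w * (b * g)⁻¹ := by group
      _ = (g * b) * w * (g * b)⁻¹ := hact (by rw [map_mul, map_mul, hg b hb]) hwV
      _ = g * (b * w * b⁻¹) * g⁻¹ := by group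
      _ = _ := by rw [hwB b hb]
  have haW := hWinv a fun b hb => hAc b (hBA hb) a ha
  have hyW := hWinv y hyB
  set W0 := W ⊓ Subgroup.centralizer ({a} : Set G)
  have hW0 : W0 ≤ V ⊓ Subgroup.centralizer (A : Set G) := fun w hw => by
    obtain ⟨hwV, hwB⟩ := hWmem.1 hw.1
    refine ⟨hwV, Subgroup.mem_centralizer_iff.2 fun c hc => ?_⟩
    have hwa : a * w = w * a := (Subgroup.mem_centralizer_singleton_iff.1 hw.2).symm
    rcases htwo c hc with h | h
    · exact mul_inv_eq_iff_eq_mul.1 (hwB c h)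
    · have h1 := mul_inv_eq_iff_eq_mul.1 (hwB _ h)
      refine mul_left_cancel (a := a) ?_
      rw [← mul_assoc, h1, ← mul_assoc, ← mul_assoc, hwa]
  have hW0' : V ⊓ Subgroup.centralizer (A : Set G) ≤ W0 := fun w hw =>
    ⟨⟨hw.1, Subgroup.centralizer_le (SetLike.coe_subset_coe.2 hBA) hw.2⟩,
      Subgroup.mem_centralizer_singleton_iff.2 (Subgroup.mem_centralizer_iff.1 hw.2 a ha).symm⟩
  have hW2 : Nat.card W ≤ 2 * Nat.card W0 := by
    have hA : Nat.card A ≤ 2 * Nat.card B := by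
      let g : Bool × B → A := fun p => bif p.1 then ⟨a⁻¹ * p.2, A.mul_mem (A.inv_mem ha) (hBA p.2.2)⟩
        else ⟨p.2, hBA p.2.2⟩
      have hg : Function.Surjective g := fun c => by
        rcases htwo c c.2 with h | h
        · exact ⟨(false, ⟨c, h⟩), rfl⟩
        · exact ⟨(true, ⟨a * c, h⟩), Subtype.ext (inv_mul_cancel_left a c)⟩
      have := Nat.card_le_card_of_surjective g hg
      rwa [Nat.card_prod, Nat.card_eq_fintype_card (α := Bool), Fintype.card_bool] at this
    have h1 := hmax B hBA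
    rw [show (V ⊓ Subgroup.centralizer (A : Set G)) = W0 from le_antisymm hW0' hW0] at h1
    have h2 : Nat.card B * Nat.card W ≤ Nat.card B * (2 * Nat.card W0) := by
      calc Nat.card B * Nat.card W ≤ Nat.card A * Nat.card W0 := h1
        _ ≤ 2 * Nat.card B * Nat.card W0 := Nat.mul_le_mul_right _ hA
        _ = _ := by ring
    exact Nat.le_of_mul_le_mul_left h2 Nat.card_pos
  -- `W₁` is fixed by `y`
  set W1 := W0 ⊓ W0.map (MulAut.conj y).toMonoidHom
  have hW1fix : ∀ w ∈ W1, y * w * y⁻¹ = w := by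
    intro w hw
    obtain ⟨w', hw', e⟩ := hw.2
    change y * w' * y⁻¹ = w at e
    have hwV : w ∈ V := hw.1.1.1
    have hfix : ∀ z ∈ W0, a * z * a⁻¹ = z := fun z hz => by
      rw [(Subgroup.mem_centralizer_singleton_iff.1 hz.2).symm, mul_inv_cancel_right]
    refine hroot y n hn hyn w hwV ?_
    have h1 : (y * a * y⁻¹) * w * (y * a * y⁻¹)⁻¹ = w := by
      rw [← e]
      calc y * a * y⁻¹ * (y * w' * y⁻¹) * (y * a * y⁻¹)⁻¹ = y * (a * w' * a⁻¹) * y⁻¹ := by group
        _ = _ := by rw [hfix w' hw']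
    have h2 : f (y * a * y⁻¹) = f (y * y * a) := by
      simp only [map_mul, map_inv]
      rw [← hinv]
      calc f y * f a * (f a * f y * (f a)⁻¹) = f y * (f a * f a) * f y * (f a)⁻¹ := by group
        _ = _ := by rw [hA2' a ha, mul_one, hAinv a ha]
    rw [hact h2 hwV] at h1
    calc y * y * w * (y * y)⁻¹ = y * y * (a * w * a⁻¹) * (y * y)⁻¹ := by rw [hfix w hw.1]
      _ = y * y * a * w * (y * y * a)⁻¹ := by group
      _ = w := h1
  have hW4 : Nat.card W ≤ 4 * Nat.card W1 := by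
    set Wy := W0.map (MulAut.conj y).toMonoidHom
    have hWyW : Wy ≤ W := by
      rintro _ ⟨w, hw, rfl⟩
      exact (Subgroup.mem_normalizer_iff.1 hyW w).1 hw.1
    have hcard : Nat.card Wy = Nat.card W0 :=
      Subgroup.card_map_of_injective (MulAut.conj y).injective
    have h3 := PLocal.card_sup_mul_card_inf (H := W0) (K := Wy) (fun z hz =>
      Subgroup.centralizer_le_normalizer _ (Subgroup.mem_centralizer_iff.2 fun w hw =>
        hVV w hw.1.1 z (hWyW hz).1))
    rw [hcard] at h3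
    have h4 : Nat.card ↥(W0 ⊔ Wy) ≤ Nat.card W := Subgroup.card_le_of_le (sup_le inf_le_left hWyW)
    have h5 : Nat.card W * Nat.card W ≤ 4 * Nat.card W1 * Nat.card W := by
      calc Nat.card W * Nat.card W ≤ (2 * Nat.card W0) * (2 * Nat.card W0) := Nat.mul_le_mul hW2 hW2
        _ = 4 * (Nat.card W0 * Nat.card W0) := by ring
        _ ≤ 4 * (Nat.card W * Nat.card W1) := by
          refine Nat.mul_le_mul_left 4 ?_
          rw [← h3]
          exact Nat.mul_le_mul_right _ h4
        _ = _ := by ring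
    exact Nat.le_of_mul_le_mul_right h5 Nat.card_pos
  -- the cube fixes `W`
  have hy3 : y ^ 3 ∈ Subgroup.centralizer (W : Set G) := by
    refine Subgroup.mem_centralizer_iff.2 fun w hw => ?_
    refine (mul_inv_eq_iff_eq_mul.1 (?_ : y ^ 3 * w * (y ^ 3)⁻¹ = w)).symm
    have hWmemy : ∀ i : ℕ, y ^ i * w * (y ^ i)⁻¹ ∈ W := fun i =>
      (Subgroup.mem_normalizer_iff.1 ((Subgroup.normalizer (W : Set G)).pow_mem hyW i) w).1 hw
    have hW1W : W1 ≤ W := inf_le_left.trans inf_le_left
    have hpfix : ∀ (i : ℕ), ∀ z ∈ W1, y ^ i * z * (y ^ i)⁻¹ = z := fun i => by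
      induction i with
      | zero => intro z _; simp
      | succ i ih =>
        intro z hz
        calc y ^ (i + 1) * z * (y ^ (i + 1))⁻¹ = y ^ i * (y * z * y⁻¹) * (y ^ i)⁻¹ := by
              rw [pow_succ]; group
          _ = z := by rw [hW1fix z hz, ih z hz]
    haveI : IsMulCommutative W := ⟨⟨fun u v => Subtype.ext (hVV u u.2.1 v v.2.1)⟩⟩
    haveI : (W1.subgroupOf W).Normal := ⟨fun u hu v => by
      rw [mul_comm' v u, mul_inv_cancel_right]
      exact hu⟩
    set φ : Fin 4 → W ⧸ W1.subgroupOf W := fun i => QuotientGroup.mk ⟨_, hWmemy i⟩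
    have hq : Nat.card (W ⧸ W1.subgroupOf W) ≤ 4 := by
      have h := Subgroup.card_eq_card_quotient_mul_card_subgroup (W1.subgroupOf W)
      rw [Nat.card_congr (Subgroup.subgroupOfEquivOfLe hW1W).toEquiv] at h
      rw [h] at hW4
      exact Nat.le_of_mul_le_mul_right hW4 Nat.card_pos
    have hshift : ∀ (i : ℕ), w⁻¹ * (y ^ i * w * (y ^ i)⁻¹) ∈ W1 → i = 1 ∨ i = 2 ∨ i = 3 →
        y ^ 3 * w * (y ^ 3)⁻¹ = w := by
      intro i hi hi3
      set z := y ^ i * w * (y ^ i)⁻¹ * w⁻¹ with hz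
      have hz1 : z ∈ W1 := by
        have : z = w⁻¹ * (y ^ i * w * (y ^ i)⁻¹) := by
          rw [hz, hVV (y ^ i * w * (y ^ i)⁻¹) (hWmemy i).1 w⁻¹ (V.inv_mem hw.1)]
        rw [this]; exact hi
      have h1 : y ^ i * w * (y ^ i)⁻¹ = w := by
        refine hlin (y ^ i) n hn ?_ w hw.1 (hpfix i z hz1)
        rw [← pow_mul, mul_comm, pow_mul]
        exact C.pow_mem hyn i
      rcases hi3 with rfl | rfl | rfl
      · rw [pow_one] at h1
        calc y ^ 3 * w * (y ^ 3)⁻¹ = y * (y * (y * w * y⁻¹) * y⁻¹) * y⁻¹ := by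
              simp only [pow_succ, pow_zero, one_mul]; group
          _ = w := by rw [h1, h1, h1]
      · have h2 := hroot y n hn hyn w hw.1 (by rwa [← sq])
        calc y ^ 3 * w * (y ^ 3)⁻¹ = y * (y * (y * w * y⁻¹) * y⁻¹) * y⁻¹ := by
              simp only [pow_succ, pow_zero, one_mul]; group
          _ = w := by rw [h2, h2, h2]
      · exact h1
    by_cases hinj : Function.Injective φ
    · -- then the quotient is the orbit, so one of the four is trivial
      have := Fintype.ofFinite (W ⧸ W1.subgroupOf W)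
      rw [Nat.card_eq_fintype_card] at hq
      have hb : Function.Bijective φ := (Fintype.bijective_iff_injective_and_card φ).2 ⟨hinj,
        le_antisymm (Fintype.card_le_of_injective φ hinj) (hq.trans (Fintype.card_fin 4).ge)⟩
      obtain ⟨i, hi⟩ := hb.2 1
      have h1 : y ^ (i : ℕ) * w * (y ^ (i : ℕ))⁻¹ ∈ W1 := (QuotientGroup.eq_one_iff (N := W1.subgroupOf W) ⟨_, hWmemy i⟩).1 hi
      have h2 := hpfix (i : ℕ) _ h1
      have h3 : y ^ (i : ℕ) * w * (y ^ (i : ℕ))⁻¹ = w := by
        refine mul_left_cancel (a := y ^ (i : ℕ)) (mul_right_cancel (b := (y ^ (i : ℕ))⁻¹) ?_)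
        exact h2
      have h4 : w ∈ W1 := h3 ▸ h1
      exact hpfix 3 w h4
    · rw [Function.Injective] at hinj
      push Not at hinj
      obtain ⟨i, j, hij, hne'⟩ := hinj
      wlog hlt : (i : ℕ) < j generalizing i j
      · exact this j i hij.symm (Ne.symm hne') (lt_of_le_of_ne (not_lt.1 hlt) fun e => hne' (Fin.ext e.symm))
      have h1 : (y ^ (i : ℕ) * w * (y ^ (i : ℕ))⁻¹)⁻¹ *
          (y ^ (j : ℕ) * w * (y ^ (j : ℕ))⁻¹) ∈ W1 := Subgroup.mem_subgroupOf.1 ((QuotientGroup.eq (s := W1.subgroupOf W) (a := ⟨_, hWmemy i⟩) (b := ⟨_, hWmemy j⟩)).1 hij)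
      set z := (y ^ (i : ℕ) * w * (y ^ (i : ℕ))⁻¹)⁻¹ * (y ^ (j : ℕ) * w * (y ^ (j : ℕ))⁻¹)
      refine hshift ((j : ℕ) - i) ?_ (by have := j.2; omega)
      have h2 : w⁻¹ * (y ^ ((j : ℕ) - i) * w * (y ^ ((j : ℕ) - i))⁻¹) =
          (y ^ (i : ℕ))⁻¹ * z * y ^ (i : ℕ) := by
        have e : y ^ (j : ℕ) = y ^ (i : ℕ) * y ^ ((j : ℕ) - i) := by
          rw [← pow_add, Nat.add_sub_cancel' hlt.le]
        simp only [z, e]; group
      rw [h2]
      have h3 : (y ^ (i : ℕ))⁻¹ * z * y ^ (i : ℕ) = z := by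
        conv_lhs => rw [← hpfix (i : ℕ) z h1]
        group
      rw [h3]; exact h1
  -- `y` moves `W`
  have hyW' : y ∉ Subgroup.centralizer (W : Set G) := by
    intro hfix
    apply hy1
    refine Subgroup.mem_centralizer_iff.2 fun v hv => ?_
    refine (mul_inv_eq_iff_eq_mul.1 (?_ : y * v * y⁻¹ = v)).symm
    by_contra hne'
    set M : Set G := {m | ∃ v ∈ V, y * v * y⁻¹ * v⁻¹ = m}
    have hMV : ∀ m ∈ M, m ∈ V := by
      rintro _ ⟨v, hv, rfl⟩
      exact V.mul_mem ((inferInstance : V.Normal).conj_mem v hv y) (V.inv_mem hv)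
    have hMc : ∀ b ∈ B, ∀ v ∈ V, b * (y * v * y⁻¹ * v⁻¹) * b⁻¹ =
        y * (b * v * b⁻¹) * y⁻¹ * (b * v * b⁻¹)⁻¹ := by
      intro b hb v hv
      calc b * (y * v * y⁻¹ * v⁻¹) * b⁻¹ = (b * y) * v * (b * y)⁻¹ * (b * v * b⁻¹)⁻¹ := by group
        _ = (y * b) * v * (y * b)⁻¹ * (b * v * b⁻¹)⁻¹ := by
          rw [hact (g := b * y) (h := y * b) (by rw [map_mul f b y, map_mul f y b, hyB b hb]) hv]
        _ = _ := by group
    have hfp : ∀ s : Finset G, (∀ b ∈ s, b ∈ B) →
        ∃ m ∈ M, m ≠ 1 ∧ ∀ b ∈ s, b * m * b⁻¹ = m := by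
      intro s
      induction s using Finset.induction with
      | empty =>
        exact fun _ => ⟨_, ⟨v, hv, rfl⟩, fun e => hne' (mul_inv_eq_one.1 e), fun b hb => by simp at hb⟩
      | insert b s hbs ih =>
        intro hs
        obtain ⟨m, hm, hm1, hmfix⟩ := ih fun c hc => hs c (Finset.mem_insert_of_mem hc)
        have hbB := hs b (Finset.mem_insert_self b s)
        by_cases hbm : b * m * b⁻¹ = m
        · exact ⟨m, hm, hm1, fun c hc => by
            rcases Finset.mem_insert.1 hc with rfl | hc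
            · exact hbm
            · exact hmfix c hc⟩
        have hmV := hMV m hm
        have hbmV : b * m * b⁻¹ ∈ V := (inferInstance : V.Normal).conj_mem m hmV b
        refine ⟨b * m * b⁻¹ * m, ?_, fun e => hbm ?_, fun c hc => ?_⟩
        · obtain ⟨u, hu, rfl⟩ := hm
          have hu' : b * u * b⁻¹ ∈ V := (inferInstance : V.Normal).conj_mem u hu b
          refine ⟨b * u * b⁻¹ * u, V.mul_mem hu' hu, ?_⟩
          rw [hMc b hbB u hu]
          have e1 : y * u * y⁻¹ ∈ V := (inferInstance : V.Normal).conj_mem u hu y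
          set p := y * (b * u * b⁻¹) * y⁻¹
          set q := b * u * b⁻¹
          calc y * (q * u) * y⁻¹ * (q * u)⁻¹ = p * ((y * u * y⁻¹ * u⁻¹) * q⁻¹) := by
                simp only [p, q]; group
            _ = p * (q⁻¹ * (y * u * y⁻¹ * u⁻¹)) := by
                rw [hVV _ (hMV _ ⟨u, hu, rfl⟩) q⁻¹ (V.inv_mem hu')]
            _ = _ := by group
        · rw [eq_comm] at e
          have := eq_inv_of_mul_eq_one_left e.symm
          rw [this, inv_eq_of_mul_eq_one_right (hV2 m hmV)]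
        · rcases Finset.mem_insert.1 hc with rfl | hc'
          · have h2 : c * (c * m * c⁻¹) * c⁻¹ = m := by
              calc c * (c * m * c⁻¹) * c⁻¹ = (c * c) * m * (c * c)⁻¹ := by group
                _ = (1 : G) * m * (1 : G)⁻¹ := hact (by rw [map_mul, hA2' c (hBA hbB), map_one]) hmV
                _ = m := by group
            calc c * (c * m * c⁻¹ * m) * c⁻¹ = c * (c * m * c⁻¹) * c⁻¹ * (c * m * c⁻¹) := by group
              _ = m * (c * m * c⁻¹) := by rw [h2]
              _ = c * m * c⁻¹ * m := hVV m hmV _ hbmV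
          · have hcB := hs c (Finset.mem_insert_of_mem hc')
            have h2 : c * (b * m * b⁻¹) * c⁻¹ = b * m * b⁻¹ := by
              calc c * (b * m * b⁻¹) * c⁻¹ = (c * b) * m * (c * b)⁻¹ := by group
                _ = (b * c) * m * (b * c)⁻¹ :=
                  hact (by rw [map_mul, map_mul, hAc c (hBA hcB) b (hBA hbB)]) hmV
                _ = b * (c * m * c⁻¹) * b⁻¹ := by group
                _ = _ := by rw [hmfix c hc']
            calc c * (b * m * b⁻¹ * m) * c⁻¹ = c * (b * m * b⁻¹) * c⁻¹ * (c * m * c⁻¹) := by group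
              _ = _ := by rw [h2, hmfix c hc']
    obtain ⟨m, ⟨u, hu, rfl⟩, hm1, hmfix⟩ := hfp (Set.toFinite (B : Set G)).toFinset
      (fun b hb => by simpa using hb)
    set m := y * u * y⁻¹ * u⁻¹
    have hmW : m ∈ W := hWmem.2 ⟨hMV _ ⟨u, hu, rfl⟩, fun b hb => hmfix b (by simpa using hb)⟩
    have hym : y * m * y⁻¹ = m := by
      rw [← Subgroup.mem_centralizer_iff.1 hfix m hmW, mul_inv_cancel_right]
    refine hm1 (mul_inv_eq_one.2 ?_)
    exact hlin y n hn hyn u hu hym
  have hWV : W ≤ V := inf_le_left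
  have hCW : C ≤ Subgroup.centralizer (W : Set G) := Subgroup.centralizer_le (SetLike.coe_subset_coe.2 hWV)
  refine involves_of_inverting_action
    ((fun v => ⟨1, Subtype.ext (by simpa [sq] using hV2 v v.2.1)⟩) : IsPGroup 2 W) haW hyW
    (hCW (hA2 a ha)) hy3 (hCW (hf1.1 ?_)) hyW'
  rw [map_mul, map_mul, map_mul, map_inv, hinv, inv_mul_cancel]

end Cfsg.Agent.SFourOffender
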